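import Cfsg.Agent.Lib.Sporadic.Fi23Data.Fi23WordE7
import Cfsg.Agent.Lib.Sporadic.Fi23SylowTwo.Data

/-!
The first generator is the conjugate of the central word along a path.
-/

set_option autoImplicit false
set_option maxRecDepth 100000
set_option maxHeartbeats 0

namespace CfsgLib.Sporadic.CosetCert.Fi23P.Two

open Fi23Data

/-- The rows along the conjugated word and the first generator. -/
noncomputable def baseRows : List (ℕ → ℕ) :=
  pathWord.reverse.map (fun x => fastRows.getD x id) ++ List.replicate 9 prodE7 ++
    (pathWord ++ [0]).map (fun x => fastRows.getD x id)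

theorem base0 : PTab.fixL baseRows 0 8000 = true := by decide +kernel
theorem base1 : PTab.fixL baseRows 8000 8000 = true := by decide +kernel
theorem base2 : PTab.fixL baseRows 16000 8000 = true := by decide +kernel
theorem base3 : PTab.fixL baseRows 24000 7671 = true := by decide +kernel

theorem runL_append (fs gs : List (ℕ → ℕ)) (v : ℕ) : PTab.runL (fs ++ gs) v = PTab.runL gs (PTab.runL fs v) := by
  induction fs generalizing v with
  | nil => rfl
  | cons f fs ih => rw [List.cons_append, PTab.runL_cons, PTab.runL_cons, ih]

theorem base_ok : ∀ u < table.N,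
    table.imgW (pathWord.reverse ++ (List.replicate 9 prodE7Letters).flatten ++ (pathWord ++ [0])) u = u := by
  intro u hu
  have hfix : PTab.runL baseRows u = u := by
    have hN : table.N = 31671 := rfl
    rcases lt_or_ge u 8000 with h | h
    · exact PTab.fixL_spec base0 u (Nat.zero_le _) (by omega)
    rcases lt_or_ge u 16000 with h' | h'
    · exact PTab.fixL_spec base1 u h (by omega)
    rcases lt_or_ge u 24000 with h'' | h''
    · exact PTab.fixL_spec base2 u h' (by omega)
    exact PTab.fixL_spec base3 u h'' (by omega)
  have happ : ∀ A B v, table.imgW (A ++ B) v = table.imgW B (table.imgW A v) := fun A B v => List.foldl_append ..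
  obtain ⟨e1, l1⟩ := imgW_fast pathWord.reverse (by decide) u hu
  have hl2 : table.imgW (List.replicate 9 prodE7Letters).flatten (table.imgW pathWord.reverse u) < table.N := by
    obtain ⟨-, h⟩ := imgW_fast (List.replicate 9 prodE7Letters).flatten (by decide) _ l1
    exact h
  rw [happ (pathWord.reverse ++ _), happ pathWord.reverse, (imgW_fast (pathWord ++ [0]) (by decide) _ hl2).1,
    PTab.imgW_pow prodE7_eq 9 _ l1, e1]
  rw [baseRows, runL_append, runL_append] at hfix
  exact hfix

end CfsgLib.Sporadic.CosetCert.Fi23P.Two
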