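import Cfsg.Agent.Lib.Sporadic.Fi23Presented
import Cfsg.Agent.Lib.Sporadic.Fi23SylowTwo.Base

/-!
Transpositions of the presented group Fi23 attached to the 31671 points, and the criterion that an element
fixing the ten points of the generators is trivial.
-/

set_option autoImplicit false
set_option maxRecDepth 100000

open Cfsg.Spor

namespace CfsgLib.Sporadic.CosetCert.Fi23P.Two

open Fi23Data (table forestH prodE7Letters)

attribute [local irreducible] PTab.img Forest.cls

/-- The element of a word, letters in order of application. -/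
noncomputable def el (L : List ℕ) : Fi23 := appProd coding.gen L

theorem el_append (A B : List ℕ) : el (A ++ B) = el B * el A := appProd_append _ A B

theorem el_nil : el [] = 1 := rfl

theorem el_single (x : ℕ) : el [x] = coding.gen x := one_mul _

theorem el_img {L : List ℕ} (hL : ∀ x ∈ L, x < 10) (u : Fin table.N) :
    ((hom (el L) u : Fin table.N) : ℕ) = table.imgW L u := hom_word L hL u

theorem gen_sq {x : ℕ} (hx : x < 10) : coding.gen x * coding.gen x = 1 := by
  obtain ⟨a, rfl⟩ : ∃ a : Fi23.Gen, code a = x := by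
    refine ⟨gens.getD x Fi23.Gen.a, ?_⟩
    revert x
    decide
  rw [show coding.gen (code a) = PresentedGroup.of a from coding.gen_code a]
  exact inv_eq_iff_mul_eq_one.1 (node_inv (mem_nodes a))

theorem el_reverse {L : List ℕ} (hL : ∀ x ∈ L, x < 10) : el L.reverse = (el L)⁻¹ := by
  induction L with
  | nil => simp [el_nil]
  | cons x t ih =>
    rw [List.reverse_cons, el_append, ih fun y hy => hL y (List.mem_cons_of_mem _ hy), el_single,
      show el (x :: t) = el t * coding.gen x from rfl, mul_inv_rev,
      inv_eq_of_mul_eq_one_right (gen_sq (hL x List.mem_cons_self))]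

theorem braid {x y : ℕ} (h : (x, y) ∈ treePairs) :
    coding.gen y = coding.gen x * coding.gen y * coding.gen x * (coding.gen x * coding.gen y)⁻¹ := by
  obtain ⟨a, ha, b, hb, hl⟩ : ∃ a, code a = x ∧ ∃ b, code b = y ∧ coxLabel Fi23.edges a b = 3 := by
    simp only [treePairs, List.mem_cons, Prod.mk.injEq, List.not_mem_nil, or_false] at h
    refine ⟨gens.getD x Fi23.Gen.a, ?_, gens.getD y Fi23.Gen.a, ?_, ?_⟩ <;>
      rcases h with h | h | h | h | h | h | h | h | h <;> obtain ⟨rfl, rfl⟩ := h <;> decide
  have h3 : (coding.gen x * coding.gen y) ^ 3 = 1 := by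
    rw [← ha, ← hb, show coding.gen (code a) = PresentedGroup.of a from coding.gen_code a,
      show coding.gen (code b) = PresentedGroup.of b from coding.gen_code b]
    have := PresentedGroup.one_of_mem
      (rels := coxRelators Fi23.edges ∪ {r | r ∈ Fi23.extra})
      (Or.inl ⟨a, mem_nodes a, b, mem_nodes b, rfl⟩ :
        (FreeGroup.of a * FreeGroup.of b) ^ coxLabel Fi23.edges a b ∈ _)
    rw [map_pow, map_mul, hl] at this
    exact this
  have hyy := gen_sq (show y < 10 by rw [← hb]; cases b <;> decide)
  have hxx := gen_sq (show x < 10 by rw [← ha]; cases a <;> decide)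
  generalize coding.gen x = u at h3 hxx ⊢
  generalize coding.gen y = v at h3 hyy ⊢
  have hu : u⁻¹ = u := inv_eq_of_mul_eq_one_right hxx
  have hv : v⁻¹ = v := inv_eq_of_mul_eq_one_right hyy
  rw [mul_inv_rev, hu, hv]
  calc v = (u * v) ^ 3 * v := by rw [h3, one_mul]
    _ = u * v * u * (v * u) * (v * v) := by simp only [pow_succ, pow_zero, one_mul, mul_assoc]
    _ = u * v * u * (v * u) := by rw [hyy, mul_one]

/-- The central element of the stabiliser of the base point. -/
noncomputable def zz : Fi23 :=
  PresentedGroup.mk (coxRelators Fi23.edges ∪ {r | r ∈ Fi23.extra}) relE7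

theorem zz_eq : zz = el (List.replicate 9 prodE7Letters).flatten := by
  rw [zz, coding.mk_eq]
  exact congrArg el (by decide +kernel)

theorem stab_le {g : Fi23} (hg : hom g pt = pt) : g ∈ sub lH := by
  have := finite
  classical
  obtain ⟨e, he⟩ : ∃ S : Subgroup Fi23, ∀ a, a ∈ S ↔ hom a pt = pt :=
    ⟨(MulAction.stabilizer (Equiv.Perm (Fin table.N)) pt).comap hom, fun a => Iff.rfl⟩
  have hle : sub lH ≤ e := fun a ha => (he a).2 (hom_fix a ha)
  have hidx : e.index = table.N := by
    let f : Fi23 ⧸ e → Fin table.N := Quotient.lift (fun a => hom a pt) fun a b h => by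
      have := (he _).1 (QuotientGroup.leftRel_apply.1 h)
      rw [map_mul, Equiv.Perm.mul_apply, map_inv, Equiv.Perm.inv_def, Equiv.symm_apply_eq] at this
      exact this.symm
    refine (Nat.card_eq_of_bijective f ⟨?_, fun u => ?_⟩).trans (Nat.card_fin _)
    · intro a b
      induction a using QuotientGroup.induction_on with
      | H a =>
        induction b using QuotientGroup.induction_on with
        | H b =>
          intro h
          refine (QuotientGroup.eq).2 ((he _).2 ?_)
          rw [map_mul, Equiv.Perm.mul_apply, map_inv, Equiv.Perm.inv_def, Equiv.symm_apply_eq]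
          exact h.symm
    · obtain ⟨a, ha⟩ := transitive u
      exact ⟨QuotientGroup.mk a, ha⟩
  have hrel := Subgroup.relIndex_mul_index hle
  rw [hidx, index_H_eq, show table.N = 31671 from rfl] at hrel
  exact (Subgroup.relIndex_eq_one.1 (Nat.eq_of_mul_eq_mul_right (by norm_num : 0 < 31671)
    (hrel.trans (one_mul _).symm))) ((he g).2 hg)

theorem zz_comm {k : Fi23} (hk : k ∈ sub lH) : Commute k zz := by
  have hz : (⟨zz, relE7_mem⟩ : sub lH) ∈ Subgroup.center (sub lH) := by
    rw [center_eq, MonoidHom.mem_ker, toFi22]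
    simp only [MonoidHom.comp_apply, MulEquiv.coe_toMonoidHom, EmbeddingLike.map_eq_one_iff]
    refine Subtype.ext (Equiv.ext fun u => Subtype.ext ?_)
    exact relE7_class u.1 u.2
  exact congrArg Subtype.val (Subgroup.mem_center_iff.1 hz ⟨k, hk⟩)

/-- The transposition of a point. -/
noncomputable def dp (p : Fin table.N) : Fi23 :=
  (transitive p).choose * zz * (transitive p).choose⁻¹

theorem dp_eq {g : Fi23} {p : Fin table.N} (hg : hom g pt = p) : dp p = g * zz * g⁻¹ := by
  have hc := (transitive p).choose_spec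
  rw [dp]
  generalize (transitive p).choose = c at hc ⊢
  have hk : g⁻¹ * c ∈ sub lH := stab_le (by
    rw [map_mul, Equiv.Perm.mul_apply, hc, map_inv, Equiv.Perm.inv_def, Equiv.symm_apply_eq, hg])
  have := (zz_comm hk).eq
  calc c * zz * c⁻¹ = g * (g⁻¹ * c * zz) * c⁻¹ := by group
    _ = g * (zz * (g⁻¹ * c)) * c⁻¹ := by rw [this]
    _ = g * zz * g⁻¹ := by group

theorem conj_dp (g : Fi23) (p : Fin table.N) : g * dp p * g⁻¹ = dp (hom g p) := by
  obtain ⟨c, hc⟩ := transitive p
  rw [dp_eq hc, dp_eq (g := g * c) (by rw [map_mul, Equiv.Perm.mul_apply, hc])]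
  group

theorem comm_of_fix {g : Fi23} {p : Fin table.N} (h : hom g p = p) : Commute g (dp p) := by
  have := conj_dp g p
  rw [h, mul_inv_eq_iff_eq_mul] at this
  exact this

theorem pts_lt : ∀ x < 10, genPts.getD x 0 < table.N := by decide

/-- The point of a generator. -/
noncomputable def gpt (x : ℕ) : Fin table.N :=
  if h : genPts.getD x 0 < table.N then ⟨genPts.getD x 0, h⟩ else pt

theorem gpt_val {x : ℕ} (hx : x < 10) : (gpt x : ℕ) = genPts.getD x 0 := by
  rw [gpt, dif_pos (pts_lt x hx)]

theorem path_ok : table.imgW pathWord 0 = genPts.getD 0 0 := by decide +kernel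

theorem tree_ok : treePairs.all (fun e =>
    Nat.beq (table.imgW [e.2, e.1] (genPts.getD e.1 0)) (genPts.getD e.2 0)) = true := by decide +kernel

theorem gen_zero : coding.gen 0 = dp (gpt 0) := by
  have hw : ∀ x ∈ pathWord, x < 10 := by decide
  have hg : hom (el pathWord) pt = gpt 0 := Fin.ext (by rw [el_img hw, gpt_val (by norm_num)]; exact path_ok)
  rw [dp_eq hg, zz_eq]
  have hL : ∀ x ∈ pathWord.reverse ++ (List.replicate 9 prodE7Letters).flatten ++ (pathWord ++ [0]), x < 10 := by
    decide
  have h1 : el (pathWord.reverse ++ (List.replicate 9 prodE7Letters).flatten ++ (pathWord ++ [0])) = 1 := by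
    refine card_eq.2 (Equiv.ext fun u => Fin.ext ?_)
    rw [map_one, el_img hL]
    exact base_ok u u.2
  rw [el_append, el_append, el_append, el_reverse hw, el_single, mul_assoc (coding.gen 0)] at h1
  have h2 := inv_eq_of_mul_eq_one_right h1
  rw [inv_eq_of_mul_eq_one_right (gen_sq (show (0 : ℕ) < 10 by norm_num))] at h2
  rw [h2, mul_assoc]

theorem gen_step {x y : ℕ} (h : (x, y) ∈ treePairs) (hx : coding.gen x = dp (gpt x)) :
    coding.gen y = dp (gpt y) := by
  have hlt : x < 10 ∧ y < 10 :=
    (show ∀ e ∈ treePairs, e.1 < 10 ∧ e.2 < 10 by decide) (x, y) h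
  have hp : hom (el [y, x]) (gpt x) = gpt y := by
    refine Fin.ext ?_
    rw [el_img (by simp [hlt.1, hlt.2]), gpt_val hlt.1, gpt_val hlt.2]
    exact Nat.eq_of_beq_eq_true (List.all_eq_true.1 tree_ok _ h)
  have e : el [y, x] = coding.gen x * coding.gen y := by
    show 1 * coding.gen x * coding.gen y = _
    rw [one_mul]
  rw [← hp, ← conj_dp, ← hx, e]
  exact braid h

theorem gen_eq_dp : ∀ x < 10, coding.gen x = dp (gpt x) := by
  have h0 := gen_zero
  have h1 := gen_step (x := 0) (y := 1) (by decide) h0
  have h2 := gen_step (x := 1) (y := 2) (by decide) h1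
  have h3 := gen_step (x := 2) (y := 3) (by decide) h2
  have h4 := gen_step (x := 3) (y := 4) (by decide) h3
  have h5 := gen_step (x := 4) (y := 5) (by decide) h4
  have h6 := gen_step (x := 5) (y := 6) (by decide) h5
  have h7 := gen_step (x := 6) (y := 7) (by decide) h6
  have h8 := gen_step (x := 3) (y := 8) (by decide) h3
  have h9 := gen_step (x := 8) (y := 9) (by decide) h8
  intro x hx
  interval_cases x <;> assumption

/-- An element fixing the points of the generators is trivial. -/
theorem eq_one_of_fix {g : Fi23} (h : ∀ x < 10, hom g (gpt x) = gpt x) : g = 1 := by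
  have hc : g ∈ Subgroup.center Fi23 := by
    rw [Subgroup.mem_center_iff]
    intro a
    have hle : sub [0, 1, 2, 3, 4, 5, 6, 7, 8, 9] ≤ Subgroup.centralizer {g} := by
      refine (Subgroup.closure_le _).2 ?_
      rintro _ ⟨x, hx, rfl⟩
      have hx' : x < 10 := (show ∀ y ∈ [0, 1, 2, 3, 4, 5, 6, 7, 8, 9], y < 10 by decide) x (by simpa using hx)
      rw [SetLike.mem_coe, Subgroup.mem_centralizer_singleton_iff, gen_eq_dp x hx']
      exact (comm_of_fix (h x hx')).eq.symm
    exact Subgroup.mem_centralizer_singleton_iff.1 (hle (sub_all.symm ▸ Subgroup.mem_top a))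
  have := isSimple
  rcases IsSimpleGroup.eq_bot_or_eq_top_of_normal (Subgroup.center Fi23) inferInstance with e | e
  · rw [e] at hc; exact Subgroup.mem_bot.1 hc
  · exfalso
    have hab : ∀ a b : Fi23, a * b = b * a := fun a b =>
      (Subgroup.mem_center_iff.1 (e ▸ Subgroup.mem_top b : b ∈ Subgroup.center Fi23)) a
    have := hab (coding.gen 0) (coding.gen 1)
    have h2 := congrArg (fun q => ((hom q (gpt 0) : Fin table.N) : ℕ)) this
    rw [show coding.gen 0 * coding.gen 1 = el [1, 0] from by show _ = 1 * coding.gen 0 * coding.gen 1; rw [one_mul],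
      show coding.gen 1 * coding.gen 0 = el [0, 1] from by show _ = 1 * coding.gen 1 * coding.gen 0; rw [one_mul],
      el_img (by decide), el_img (by decide), gpt_val (by norm_num)] at h2
    revert h2
    decide +kernel

/-- The test on the points of the generators. -/
noncomputable def sameK (A B : List ℕ) : Bool :=
  genPts.all fun p => Nat.beq (table.imgW A p) (table.imgW B p)

theorem eq_of_sameK {A B : List ℕ} (hA : ∀ x ∈ A, x < 10) (hB : ∀ x ∈ B, x < 10) (h : sameK A B = true) :
    el A = el B := by
  refine (inv_mul_eq_one.1 (eq_one_of_fix fun x hx => ?_)).symm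
  rw [map_mul, Equiv.Perm.mul_apply, map_inv, Equiv.Perm.inv_def, Equiv.symm_apply_eq]
  refine Fin.ext ?_
  rw [el_img hA, el_img hB, gpt_val hx]
  refine Nat.eq_of_beq_eq_true (List.all_eq_true.1 h _ ?_)
  have hlen : x < genPts.length := hx
  rw [List.getD_eq_getElem _ _ hlen]
  exact List.getElem_mem hlen

end CfsgLib.Sporadic.CosetCert.Fi23P.Two
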