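import Cfsg.Agent.Lib.Sporadic.Fi23SylowTwo.Data
import Cfsg.Agent.Lib.Sporadic.Fi23Data.Fi23Table
import Cfsg.Agent.Lib.Sporadic.CosetCertWords

/-!
The checks on the data for the abelian subgroup of order 2048 and the group permuting its transpositions.
-/

set_option autoImplicit false

namespace CfsgLib.Sporadic.CosetCert.Fi23P.Two

open Fi23Data (table)

/-- The word of one of the twenty-three transpositions. -/
def frameWord (i : ℕ) : List ℕ :=
  (frameHalf.getD i ([], 0)).1 ++ ((frameHalf.getD i ([], 0)).2 :: (frameHalf.getD i ([], 0)).1.reverse)

/-- The word of a vector. -/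
def vecWord (v : ℕ) : List ℕ :=
  (List.range 11).flatMap fun k => if v.testBit k then frameWord (basisIx.getD k 0) else []

/-- The word of a normal form in the seven elements. -/
def upWord (a : ℕ) : List ℕ :=
  (List.range 7).flatMap fun k => if a.testBit k then upWords.getD k [] else []

/-- A permutation of the twenty-three places. -/
noncomputable def permAt (a i : ℕ) : ℕ := Nat.mod (Nat.shiftRight (permK.getD a 0) (Nat.mul 5 i)) 32

/-- The product of two permutations. -/
noncomputable def mulAt (a b : ℕ) : ℕ := Nat.mod (Nat.shiftRight (mulK.getD a 0) (Nat.mul 7 b)) 128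

/-- The action on vectors. -/
noncomputable def actV (a : ℕ) (v : ℕ) : ℕ :=
  Nat.rec 0 (fun k ih =>
    Nat.xor (cond (Nat.testBit v k) (coords.getD (permAt a (basisIx.getD k 0)) 0) 0) ih) 11

/-- Every word of a transposition carries its point to the point of a generator. -/
noncomputable def frameK : Bool :=
  (List.range 23).all fun i =>
    Nat.beq (table.imgW (frameHalf.getD i ([], 0)).1 (frame.getD i 0))
      (genPts.getD (frameHalf.getD i ([], 0)).2 0)

/-- The transpositions fix the other points. -/
noncomputable def commK : Bool :=
  (List.range 23).all fun i => (List.range 23).all fun j =>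
    Nat.beq (table.imgW (frameWord i) (frame.getD j 0)) (frame.getD j 0)

/-- The transpositions have the given coordinates. -/
noncomputable def coordK : Bool :=
  (List.range 23).all fun i => Nat.blt (coords.getD i 0) 2048 &&
    genPts.all fun p => Nat.beq (table.imgW (frameWord i) p) (table.imgW (vecWord (coords.getD i 0)) p)

/-- One image of a separating point. -/
noncomputable def orbAt (o v : ℕ) : ℕ :=
  Nat.mod (Nat.shiftRight ((orbits.getD o []).getD (Nat.div v 64) 0) (Nat.mul 16 (Nat.mod v 64))) 65536

/-- The images of a separating point. -/
noncomputable def orbitK (o : ℕ) : Bool :=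
  Nat.beq (orbAt o 0) (sepPts.getD o 0) && (List.range 11).all fun k =>
    (List.range (2 ^ k)).all fun v =>
      Nat.beq (table.imgW (frameWord (basisIx.getD k 0)) (orbAt o v))
        (orbAt o (v + 2 ^ k))

/-- The images separate zero from the other vectors. -/
noncomputable def sepK : Bool :=
  (List.range 2048).all fun v => Nat.beq v 0 ||
    (List.range sepPts.length).any fun o =>
      !(Nat.beq (orbAt o v) (orbAt o 0))

/-- The seven elements permute the twenty-three points as listed. -/
noncomputable def permuteK : Bool :=
  (List.range 7).all fun k => (List.range 23).all fun i =>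
    Nat.blt (permAt (2 ^ k) i) 23 &&
      Nat.beq (table.imgW (upWords.getD k []) (frame.getD i 0)) (frame.getD (permAt (2 ^ k) i) 0)

/-- The normal form of a word agrees on the points of the generators. -/
noncomputable def normK (w : List ℕ) (va : ℕ × ℕ) (k : ℕ) : Bool :=
  Nat.blt va.1 2048 && Nat.blt va.2 (2 ^ k) &&
    genPts.all fun p => Nat.beq (table.imgW w p) (table.imgW (upWord va.2 ++ vecWord va.1) p)

/-- The squares and conjugates have the listed normal forms. -/
noncomputable def relK : Bool :=
  (List.range 7).all fun k =>
    normK (upWords.getD k [] ++ upWords.getD k []) ((relData.getD k []).getD 0 (2048, 0)) k &&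
      (List.range k).all fun j =>
        normK ((upWords.getD k []).reverse ++ upWords.getD j [] ++ upWords.getD k [])
          ((relData.getD k []).getD (j + 1) (2048, 0)) k

/-- The permutations are the composites of the seven and differ from one another. -/
noncomputable def permTabK : Bool :=
  (List.range 23).all (fun i => Nat.beq (permAt 0 i) i) &&
    ((List.range 7).all fun k => (List.range (2 ^ k)).all fun a =>
      (List.range 23).all fun i => Nat.beq (permAt (a + 2 ^ k) i) (permAt (2 ^ k) (permAt a i))) &&
    (List.range 128).all fun a => (List.range a).all fun b => !(Nat.beq (permK.getD a 0) (permK.getD b 0))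

/-- The table of products. -/
noncomputable def mulTabK (a : ℕ) : Bool :=
  (List.range 128).all fun b =>
    (List.range 23).all fun i => Nat.beq (permAt (mulAt a b) i) (permAt a (permAt b i))

/-- The list of involutions is complete. -/
noncomputable def invK : Bool :=
  (List.range 128).all fun a => Nat.beq a 0 || !(Nat.beq (mulAt a a) 0) || invList.contains a

/-- The number of vectors fixed by a permutation. -/
noncomputable def fixCount (a : ℕ) : ℕ :=
  Nat.rec 0 (fun v ih => bif Nat.beq (actV a v) v then Nat.succ ih else ih) 2048

/-- Every involution fixes at most 128 vectors. -/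
noncomputable def countK : Bool := invList.all fun a => Nat.ble (fixCount a) 128

/-- Different involutions fix different vectors. -/
noncomputable def witnessK : Bool :=
  (List.range invList.length).all fun s => (List.range invList.length).all fun t =>
    Nat.beq s t ||
      (let v := (witK.getD s []).getD t 0
       Nat.blt v 2048 && Nat.beq (actV (invList.getD s 0) v) v && !(Nat.beq (actV (invList.getD t 0) v) v))

/-- The search among commuting involutions. -/
noncomputable def dfsK : ℕ → List ℕ → ℕ → Bool
  | 0, _, _ => false
  | n + 1, S, last => invList.all fun b =>
      Nat.ble b last || S.contains b || !(S.all fun s => Nat.beq (mulAt b s) (mulAt s b)) ||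
        dfsK n (S ++ S.map (fun s => mulAt b s)) b

end CfsgLib.Sporadic.CosetCert.Fi23P.Two
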