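import Cfsg.Agent.Lib.Sporadic.Fi23SylowTwo.CheckOrbit
import Cfsg.Agent.Lib.Sporadic.Fi23SylowTwo.CheckRel
import Cfsg.Agent.Lib.Sporadic.Fi23SylowTwo.CheckMul
import Cfsg.Agent.Lib.Sporadic.Fi23SylowTwo.CheckCount
import Cfsg.Agent.Lib.Sporadic.Fi23SylowTwo.CheckDfs

/-!
The checks hold.
-/

set_option autoImplicit false
set_option maxRecDepth 100000
set_option maxHeartbeats 0

namespace CfsgLib.Sporadic.CosetCert.Fi23P.Two

theorem frame_ok : frameK = true := by decide +kernel
theorem comm_ok : commK = true := by decide +kernel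
theorem coord_ok : coordK = true := by decide +kernel
theorem sep_ok : sepK = true := by decide +kernel
theorem permute_ok : permuteK = true := by decide +kernel
theorem permTab_ok : permTabK = true := by decide +kernel
theorem inv_ok : invK = true := by decide +kernel
theorem witness_ok : witnessK = true := by decide +kernel

theorem shape_ok : frame.length = 23 ∧ basisIx.length = 11 ∧ upWords.length = 7 ∧
    (∀ i < 23, ∀ x ∈ frameWord i, x < 10) ∧ (∀ k < 7, ∀ x ∈ upWords.getD k [], x < 10) ∧
    (∀ i < 23, frame.getD i 0 < 31671) ∧ (∀ k < 11, basisIx.getD k 0 < 23) ∧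
    (∀ k < 11, coords.getD (basisIx.getD k 0) 0 = 2 ^ k) ∧ (∀ p ∈ genPts, p < 31671) ∧
    (∀ o < sepPts.length, sepPts.getD o 0 < 31671) := by decide +kernel

end CfsgLib.Sporadic.CosetCert.Fi23P.Two
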