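import Cfsg.Agent.Lib.Sporadic.Fi23SylowTwo.Defs

/-!
The permutations differ at some place, and the twenty-three points are different.
-/

set_option autoImplicit false
set_option maxRecDepth 100000
set_option maxHeartbeats 0

namespace CfsgLib.Sporadic.CosetCert.Fi23P.Two

/-- Two different permutations differ at some of the twenty-three places. -/
noncomputable def permDiffK : Bool :=
  (List.range 128).all fun a => (List.range a).all fun b =>
    (List.range 23).any fun i => !(Nat.beq (permAt a i) (permAt b i))

theorem permDiff_ok : permDiffK = true := by decide +kernel
theorem frame_nodup : ∀ i < 23, ∀ j < 23, frame.getD i 0 = frame.getD j 0 → i = j := by decide +kernel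
theorem permAt_zero_ok : ∀ i < 23, permAt 0 i = i := by decide +kernel

end CfsgLib.Sporadic.CosetCert.Fi23P.Two
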