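import Cfsg.Agent.Lib.Sporadic.Fi23SylowTwo.Defs

/-!
The images of the separating points.
-/

set_option autoImplicit false
set_option maxRecDepth 100000
set_option maxHeartbeats 0

namespace CfsgLib.Sporadic.CosetCert.Fi23P.Two

theorem orbit_ok : (List.range sepPts.length).all orbitK = true := by decide +kernel

end CfsgLib.Sporadic.CosetCert.Fi23P.Two
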